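import Cfsg.Agent.Lib.PermComp.Spor.J1Check
import Cfsg.Prelude.Def_Spor_J1
import Cfsg.Prelude.Def_Sporadic

/-!
# The group generated by the two Janko matrices

It is isomorphic to an explicit permutation group on 266 points, and it is simple of order 175560.
-/

namespace Cfsg.Agent.Lib.PermComp.Spor.J1

open Cfsg Cfsg.Spor Cfsg.Agent.Lib.PermComp Cfsg.Agent.Lib.PermComp.Table
  Cfsg.Agent.Lib.PermComp.MatCode
open Cfsg.Agent.Lib.PermComp.Spor.J1Data Cfsg.Agent.Lib.PermComp.Spor.J1Check
  Cfsg.Agent.Lib.PermComp.Spor.CertJ1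

set_option maxHeartbeats 1000000

/-- The group of matrices. -/
abbrev A : Type := GL (Fin 7) (ZMod 11)

theorem rp_X : Rp C 7 cX jankoX := by
  show jankoMatrixX = toM C 7 cX
  decide +kernel

theorem rp_Y : Rp C 7 cY jankoY := by
  show jankoMatrixY = toM C 7 cY
  decide +kernel

/-- The permutation group. -/
abbrev e266 : Fin 266 ≃ Fin j1_n := Equiv.refl _

/-- The permutation group on 266 points. -/
abbrev H266 : Subgroup (Equiv.Perm (Fin 266)) := Core.H j1_w j1_mask e266 j1_G_T

theorem j1_valid : Core.allL (Simple.validB j1_n j1_w j1_mask j1_idc) j1_G_T = true := by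
  decide +kernel

theorem j1_idok : Core.allL (fun i => Nat.beq (Core.app j1_w j1_mask j1_idc i) i)
    (List.range j1_n) = true := by
  decide +kernel

theorem j1_hm : j1_mask = 2 ^ j1_w - 1 := by decide +kernel

theorem j1_hT : ∀ c ∈ j1_G_T, ∃ g : Equiv.Perm (Fin 266), Core.Rep j1_w j1_mask e266 c g :=
  fun c hc => Simple.exists_rep_of_valid j1_hm (fun i hi =>
    Nat.eq_of_beq_eq_true ((Core.allL_eq_true _ _).1 j1_idok i (List.mem_range.2 hi)))
    ((Core.allL_eq_true _ _).1 j1_valid c hc)

theorem card_H266 : Nat.card H266 = 175560 := by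
  obtain ⟨-, -, -, -, -, h⟩ := Core.main_of_checkAll j1_hT j1_G_ok
  exact h.trans j1_order

theorem isSimple_H266 : IsSimpleGroup H266 :=
  Simple2.isSimple_of_cert2 j1_hT j1_G_ok j1_order (by norm_num) j1_reps_ok j1_syls_ok j1_prod

/-- The generating set. -/
abbrev S : Set A := {jankoX, jankoY}

theorem hφ : ∀ a b, a < 11 → b < 11 → C.φ a = C.φ b → a = b :=
  zmodCoef_inj 11 4 15 (by norm_num) (by norm_num) (by norm_num)

theorem hone : Rp C 7 idc (1 : A) := Rp.one idok

theorem hgs : ∀ j < D1.m, ∃ s ∈ S, Rp C 7 (D1.gs j) s := by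
  intro j hj
  have hj' : j < 2 := hj
  interval_cases j
  · exact ⟨jankoX, by simp [S], rp_X⟩
  · exact ⟨jankoY, by simp [S], rp_Y⟩

theorem hS : ∀ s ∈ S, ∃ j < D1.m, Rp C 7 (D1.gs j) s := by
  intro s hs
  rcases hs with rfl | rfl
  · exact ⟨0, by decide, rp_X⟩
  · exact ⟨1, by decide, rp_Y⟩

theorem chk1 : ∀ x < D1.n, Table.atOK mM idc D1 x = true :=
  forall_of_chunks mM idc D1 (s := 266) (c := 1) (by norm_num)
    (fun i hi => by
      interval_cases i
      exact d1_ok) (by decide)

theorem chk2 : ∀ x < D2.n, Table.atOK mM idc D2 x = true :=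
  forall_of_chunks mM idc D2 (s := 220) (c := 3) (by norm_num)
    (fun i hi => by
      interval_cases i
      · exact d2_ok0
      · exact d2_ok1
      · exact d2_ok2) (by decide)

/-- The lower bound -/
theorem elements_mem : ∀ c ∈ targets, ∃ g ∈ Subgroup.closure S, Rp C 7 c g := by
  refine slpOK_sound (fun h1 h2 => Rp.mul h1 h2) (Subgroup.closure S) targets slpProg [cY, cX] 2
    rfl ?_ slp_ok
  intro c hc
  simp only [List.mem_cons, List.not_mem_nil, or_false] at hc
  rcases hc with rfl | rfl
  · exact ⟨jankoY, Subgroup.subset_closure (by simp [S]), rp_Y⟩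
  · exact ⟨jankoX, Subgroup.subset_closure (by simp [S]), rp_X⟩

theorem lb : D1.n * D2.n ∣ Nat.card (Subgroup.closure S) := by
  have hL : ∀ (D : Data) (σ : Nat → Nat), (0 < D.n) → D.nK = 1 →
      (∀ x < D.n, Table.atOK mM idc D x = true) → sortedOK C 7 11 D.U σ D.n D.n = true →
      (∀ t < D.m, D.gs t ∈ targets) → D.n ∣ Nat.card (Subgroup.closure S) := by
    intro D σ h1 h2 h3 h4 h5
    exact dvd_of_list (fun h1 h2 => Rp.mul h1 h2) hone (fun h1 h2 => Rp.uniq h1 h2)
      (fun h1 h2 => Rp.div h1 h2) h3 h1 h2 (inj_of_sortedOK hφ h4) fun t ht =>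
        elements_mem _ (h5 t ht)
  have h0 := hL L0 sig0 (by decide) rfl
    (forall_of_chunks mM idc L0 (s := 8) (c := 1) (by norm_num)
      (fun i hi => by interval_cases i; exact l0_ok) (by decide)) s0_ok (by decide +kernel)
  have h1 := hL L1 sig1 (by decide) rfl
    (forall_of_chunks mM idc L1 (s := 3) (c := 1) (by norm_num)
      (fun i hi => by interval_cases i; exact l1_ok) (by decide)) s1_ok (by decide +kernel)
  have h2 := hL L2 sig2 (by decide) rfl
    (forall_of_chunks mM idc L2 (s := 5) (c := 1) (by norm_num)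
      (fun i hi => by interval_cases i; exact l2_ok) (by decide)) s2_ok (by decide +kernel)
  have h3 := hL L3 sig3 (by decide) rfl
    (forall_of_chunks mM idc L3 (s := 7) (c := 1) (by norm_num)
      (fun i hi => by interval_cases i; exact l3_ok) (by decide)) s3_ok (by decide +kernel)
  have h4 := hL L4 sig4 (by decide) rfl
    (forall_of_chunks mM idc L4 (s := 11) (c := 1) (by norm_num)
      (fun i hi => by interval_cases i; exact l4_ok) (by decide)) s4_ok (by decide +kernel)
  have h5 := hL L5 sig5 (by decide) rfl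
    (forall_of_chunks mM idc L5 (s := 19) (c := 1) (by norm_num)
      (fun i hi => by interval_cases i; exact l5_ok) (by decide)) s5_ok (by decide +kernel)
  have := lcm_dvd_of_forall (L := [L0.n, L1.n, L2.n, L3.n, L4.n, L5.n])
    (M := Nat.card (Subgroup.closure S)) (by
      intro a ha
      simp only [List.mem_cons, List.not_mem_nil, or_false] at ha
      rcases ha with rfl | rfl | rfl | rfl | rfl | rfl <;> assumption)
  have e : D1.n * D2.n = [L0.n, L1.n, L2.n, L3.n, L4.n, L5.n].foldr Nat.lcm 1 := by decide +kernel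
  rw [e]
  exact this

theorem main : Nat.card (Subgroup.closure S) = 175560 ∧
    Nonempty (Subgroup.closure S ≃* H266) := by
  obtain ⟨h1, P, hP⟩ := order_hom (fun h1 h2 => Rp.mul h1 h2) hone (fun h1 h2 => Rp.uniq h1 h2)
    (fun h1 h2 => Rp.div h1 h2) chk1 chk2 hgs hS (by decide) (by decide) (by decide)
    (fun i _ => rfl) rfl (fun t ht => by
      have ht' : t < 2 := ht
      interval_cases t
      · exact ⟨gj1, by decide, gx1, by decide +kernel, by decide +kernel, by decide +kernel⟩
      · exact ⟨gj2, by decide, gx2, by decide +kernel, by decide +kernel, by decide +kernel⟩) lb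
  have hcard : Nat.card (Subgroup.closure S) = 175560 := by
    rw [h1]
    decide
  refine ⟨hcard, ?_⟩
  -- the permutations of the generators
  obtain ⟨p0, hp0⟩ := j1_hT (Core.nthN j1_G_T 0) (Core.nthN_mem _ _ (by decide +kernel))
  obtain ⟨p1, hp1⟩ := j1_hT (Core.nthN j1_G_T 1) (Core.nthN_mem _ _ (by decide +kernel))
  let P' : Subgroup.closure S →* Equiv.Perm (Fin 266) := P
  have hP0 : P' ⟨jankoX, Subgroup.subset_closure (by simp [S])⟩ = p0 :=
    hP 0 (by decide) ⟨jankoX, Subgroup.subset_closure (by simp [S])⟩ rp_X p0 fun x => by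
      have := hp0 x
      exact this.symm
  have hP1 : P' ⟨jankoY, Subgroup.subset_closure (by simp [S])⟩ = p1 :=
    hP 1 (by decide) ⟨jankoY, Subgroup.subset_closure (by simp [S])⟩ rp_Y p1 fun x => by
      have := hp1 x
      exact this.symm
  have hr : P'.range = H266 := by
    have := range_eq P' (fun i : Fin 2 => if i = 0 then jankoX else jankoY)
      (fun i : Fin 2 => if i = 0 then p0 else p1)
      (fun i => by fin_cases i <;> simp [S])
      (fun a ha => by
        rcases ha with rfl | rfl
        · exact ⟨0, by simp⟩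
        · exact ⟨1, by simp⟩)
      (fun i => by
        fin_cases i
        · simpa using hP0
        · simpa using hP1)
    rw [this]
    show _ = Subgroup.closure _
    congr 1
    ext g
    constructor
    · rintro ⟨i, rfl⟩
      fin_cases i
      · exact ⟨Core.nthN j1_G_T 0, Core.nthN_mem _ 0 (by decide +kernel), by simpa using hp0⟩
      · exact ⟨Core.nthN j1_G_T 1, Core.nthN_mem _ 1 (by decide +kernel), by simpa using hp1⟩
    · rintro ⟨c, hc, hg⟩
      have hc' : c = Core.nthN j1_G_T 0 ∨ c = Core.nthN j1_G_T 1 := by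
        have : j1_G_T = [Core.nthN j1_G_T 0, Core.nthN j1_G_T 1] := by decide +kernel
        rw [this] at hc
        simpa using hc
      rcases hc' with rfl | rfl
      · exact ⟨0, by simpa using (hg.unique hp0).symm⟩
      · exact ⟨1, by simpa using (hg.unique hp1).symm⟩
  exact Table.nonempty_mulEquiv_of_card P' H266 hr (by rw [hcard, card_H266])

end Cfsg.Agent.Lib.PermComp.Spor.J1
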