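import Cfsg.Agent.Lib.PermComp.Spor.J1Data

/-!
# The kernel checks of the coset table of `J1Data`
-/

namespace Cfsg.Agent.Lib.PermComp.Spor.J1Check

open Cfsg.Agent.Lib.PermComp Cfsg.Agent.Lib.PermComp.Table Cfsg.Agent.Lib.PermComp.MatCode
open Cfsg.Agent.Lib.PermComp.Spor.J1Data

set_option maxHeartbeats 0

theorem idok : idOK C 7 idc = true := by decide +kernel

theorem d1_ok : rangeOK mM idc D1 (0 * 266) 266 = true := by decide +kernel
theorem d2_ok0 : rangeOK mM idc D2 (0 * 220) 220 = true := by decide +kernel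
theorem d2_ok1 : rangeOK mM idc D2 (1 * 220) 220 = true := by decide +kernel
theorem d2_ok2 : rangeOK mM idc D2 (2 * 220) 220 = true := by decide +kernel

theorem l0_ok : rangeOK mM idc L0 (0 * 8) 8 = true := by decide +kernel
theorem l1_ok : rangeOK mM idc L1 (0 * 3) 3 = true := by decide +kernel
theorem l2_ok : rangeOK mM idc L2 (0 * 5) 5 = true := by decide +kernel
theorem l3_ok : rangeOK mM idc L3 (0 * 7) 7 = true := by decide +kernel
theorem l4_ok : rangeOK mM idc L4 (0 * 11) 11 = true := by decide +kernel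
theorem l5_ok : rangeOK mM idc L5 (0 * 19) 19 = true := by decide +kernel

def sig0 (i : Nat) : Nat := Core.app 3 7 L0_sig i
def sig1 (i : Nat) : Nat := Core.app 2 3 L1_sig i
def sig2 (i : Nat) : Nat := Core.app 3 7 L2_sig i
def sig3 (i : Nat) : Nat := Core.app 3 7 L3_sig i
def sig4 (i : Nat) : Nat := Core.app 4 15 L4_sig i
def sig5 (i : Nat) : Nat := Core.app 5 31 L5_sig i

theorem s0_ok : sortedOK C 7 11 L0.U sig0 8 8 = true := by decide +kernel
theorem s1_ok : sortedOK C 7 11 L1.U sig1 3 3 = true := by decide +kernel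
theorem s2_ok : sortedOK C 7 11 L2.U sig2 5 5 = true := by decide +kernel
theorem s3_ok : sortedOK C 7 11 L3.U sig3 7 7 = true := by decide +kernel
theorem s4_ok : sortedOK C 7 11 L4.U sig4 11 11 = true := by decide +kernel
theorem s5_ok : sortedOK C 7 11 L5.U sig5 19 19 = true := by decide +kernel

theorem slp_ok : slpOK mM targets slpProg [cY, cX] 2 = true := by decide +kernel

end Cfsg.Agent.Lib.PermComp.Spor.J1Check
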