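import Cfsg.Agent.Lib.PermComp.Spor.J1

/-!
# The element orders of the first Janko group: the checks

Every element of the group on 266 points is conjugate to an element sending the first base point
to one of five orbit representatives of the point stabilizer.  This reduces the check of the
element orders to 3300 elements.
-/

namespace Cfsg.Agent.Lib.PermComp.Spor.J1SpecA

open Cfsg.Agent.Lib.PermComp Cfsg.Agent.Lib.PermComp.Core
open Cfsg.Agent.Lib.PermComp.Spor.CertJ1 Cfsg.Agent.Lib.PermComp.Spor.J1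

section Generic

variable {n : Nat} {α : Type*} {w mask L maskL idc : Nat} {e : α ≃ Fin n}

/-- Run a Boolean test on all elements `c * k`, `k` in the group of the chain. -/
noncomputable def enumAll (n w mask L maskL : Nat) (P : Nat → Bool) (ls : List Lev) : Nat → Bool :=
  List.rec (motive := fun _ => Nat → Bool) (fun c => P c)
    (fun l _ ih c =>
      allL (fun x => force (Core.comp n w mask c (app L maskL l.U x)) ih) (ptsOf l)) ls

theorem enumAll_sound {P : Nat → Bool} (hm : mask = 2 ^ w - 1) :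
    ∀ ls : List Lev, Sem w mask e L maskL ls → ∀ (c : Nat) (g : Equiv.Perm α), Rep w mask e c g →
      enumAll n w mask L maskL P ls c = true →
      ∀ k ∈ H w mask e (topGens ls), ∃ d, Rep w mask e d (g * k) ∧ P d = true := by
  intro ls
  induction ls with
  | nil =>
    intro _ c g hc hE k hk
    have hk' : k = 1 := by
      have h : H w mask e (topGens ([] : List Lev)) = ⊥ := H_nil
      rw [h] at hk
      simpa using hk
    subst hk'
    exact ⟨c, by simpa using hc, hE⟩
  | cons l ls ih =>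
    rintro ⟨hl, hls⟩ c g hc hE k hk
    obtain ⟨b, u, hbe, hub, htab, hlt, hnd, hbit, hnest, hKb, hfact⟩ := hl
    obtain ⟨a, ha, k', hk', rfl⟩ := hfact k hk
    have hE' : allL (fun x => force (Core.comp n w mask c (app L maskL l.U x)) (enumAll n w mask L maskL P ls)) (ptsOf l) = true := hE
    have h1 := (allL_eq_true _ _).1 hE' (e a) ha
    rw [force_eq] at h1
    have h2 := ih hls _ (g * u a) (hc.comp hm (htab a ha).2.2.1) h1 k' hk'
    obtain ⟨d, hd, hP⟩ := h2
    exact ⟨d, by rwa [mul_assoc] at hd, hP⟩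

/-- The test of the element orders. -/
noncomputable def powCheck (n w mask idc d : Nat) : Bool :=
  force (Core.comp n w mask d d) fun d2 =>
  force (Core.comp n w mask d2 d) fun d3 =>
  force (Core.comp n w mask d3 d2) fun d5 =>
  force (Core.comp n w mask d5 d) fun d6 =>
  Bool.rec (force (Core.comp n w mask d6 d) fun d7 =>
    Bool.rec (force (Core.comp n w mask d5 d5) fun d10 =>
      Bool.rec (force (Core.comp n w mask d10 d) fun d11 =>
        Bool.rec (force (Core.comp n w mask d10 d5) fun d15 =>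
          Bool.rec (force (Core.comp n w mask d15 d2) fun d17 =>
            force (Core.comp n w mask d17 d2) fun d19 => Nat.beq d19 idc)
            true (Nat.beq d15 idc))
          true (Nat.beq d11 idc))
        true (Nat.beq d10 idc))
      true (Nat.beq d7 idc))
    true (Nat.beq d6 idc)

theorem brec_true {x : Bool} {a b : Nat} (h : (Bool.rec x true (Nat.beq a b) : Bool) = true) :
    a = b ∨ x = true := by
  cases hb : Nat.beq a b with
  | true => exact Or.inl (Nat.eq_of_beq_eq_true hb)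
  | false =>
    rw [hb] at h
    exact Or.inr h

theorem powCheck_sound (hm : mask = 2 ^ w - 1) (hid : ∀ i < n, app w mask idc i = i) {d : Nat}
    {g : Equiv.Perm α} (hd : Rep w mask e d g) (h : powCheck n w mask idc d = true) :
    g ^ 6 = 1 ∨ g ^ 7 = 1 ∨ g ^ 10 = 1 ∨ g ^ 11 = 1 ∨ g ^ 15 = 1 ∨ g ^ 19 = 1 := by
  simp only [powCheck, force_eq] at h
  have r2 : Rep w mask e (Core.comp n w mask d d) (g ^ 2) := by
    rw [pow_two]; exact hd.comp hm hd
  have r3 := r2.comp hm hd
  rw [← pow_succ] at r3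
  have r5 := r3.comp hm r2
  rw [← pow_add] at r5
  have r6 := r5.comp hm hd
  rw [← pow_succ] at r6
  have r7 := r6.comp hm hd
  rw [← pow_succ] at r7
  have r10 := r5.comp hm r5
  rw [← pow_add] at r10
  have r11 := r10.comp hm hd
  rw [← pow_succ] at r11
  have r15 := r10.comp hm r5
  rw [← pow_add] at r15
  have r17 := r15.comp hm r2
  rw [← pow_add] at r17
  have r19 := r17.comp hm r2
  rw [← pow_add] at r19
  rcases brec_true h with h | h
  · exact Or.inl (r6.eq_one hid h)
  rcases brec_true h with h | h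
  · exact Or.inr (Or.inl (r7.eq_one hid h))
  rcases brec_true h with h | h
  · exact Or.inr (Or.inr (Or.inl (r10.eq_one hid h)))
  rcases brec_true h with h | h
  · exact Or.inr (Or.inr (Or.inr (Or.inl (r11.eq_one hid h))))
  rcases brec_true h with h | h
  · exact Or.inr (Or.inr (Or.inr (Or.inr (Or.inl (r15.eq_one hid h)))))
  · exact Or.inr (Or.inr (Or.inr (Or.inr (Or.inr (r19.eq_one hid (Nat.eq_of_beq_eq_true h))))))

/-- A search tree for the orbits of the group generated by `gens`. -/
noncomputable def coverOK (n w mask : Nat) (gens : List Nat) (t : List (Nat × Nat × Nat)) :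
    Nat → Bool :=
  List.rec (motive := fun _ => Nat → Bool)
    (fun mem => allL (fun i => bit mem i) (List.range n))
    (fun x _ ih mem =>
      ifB (bit mem x.2.2) <|
      ifB (Nat.ble (Nat.succ x.2.1) gens.length) <|
      ifB (Nat.beq (app w mask (nthN gens x.2.1) x.2.2) x.1) <|
      force (setBit mem x.1) ih) t

theorem coverOK_sound {gens : List Nat} {Q : Nat → Prop}
    (hQ : ∀ c ∈ gens, ∀ y, Q y → Q (app w mask c y)) :
    ∀ (t : List (Nat × Nat × Nat)) (mem : Nat), (∀ x, bit mem x = true → Q x) →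
      coverOK n w mask gens t mem = true → ∀ i < n, Q i := by
  intro t
  induction t with
  | nil =>
    intro mem hmem h i hi
    exact hmem i ((allL_eq_true _ _).1 h i (List.mem_range.2 hi))
  | cons x t ih =>
    intro mem hmem h i hi
    have h' : (ifB (bit mem x.2.2) <|
      ifB (Nat.ble (Nat.succ x.2.1) gens.length) <|
      ifB (Nat.beq (app w mask (nthN gens x.2.1) x.2.2) x.1) <|
      force (setBit mem x.1) (coverOK n w mask gens t)) = true := h
    simp only [ifB_eq_true, force_eq] at h'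
    obtain ⟨h1, h2, h3, h4⟩ := h'
    refine ih _ ?_ h4 i hi
    intro y hy
    rcases (bit_setBit _ _ _).1 hy with hy | rfl
    · exact hmem y hy
    · rw [← Nat.eq_of_beq_eq_true h3]
      exact hQ _ (nthN_mem _ _ (Nat.le_of_ble_eq_true h2)) _ (hmem _ h1)

end Generic

section Concrete

def el6 : Nat := nat_lit 0x1f80b5aa5dc2de749fd66da4c0254c8d5e04928475b8743c572e364cc3240bf5221127bc4310950374088471bb8202652bf9f0883e20c00683d8517641511b4d640683d0e44406161d6336a945a6b45eb4844051bc1590464003e07066f951264e1eb6c148b48371126f2aaa47c79613944213362e1466a7405d3e8e838e9b092628ba0267323e8d2162cb2d3a4b5fbb200ae620654e6131021585a32808504968a581caa3abc002ca84411643c380d876ed522a142437dba9e44c2b2b58c0d019e1a8ce608bc0e8f1aa704e4d7ba3062b03b0b4ee9b3f1c4941f2fbe4a03815bfd56cf4c8b174ef429b8527322b59e6600db25c852638d0465e1fa18547d2e891044843854a6e010094b6390d30c38b15f229ec9a6b9095e9e4ab9cf463662e59a063a3d580e2730c16d02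
def el7 : Nat := nat_lit 0x44d8818fdd6fe1daecf506849a1264730b299cec82b25588c694220ef340385e4994b35cbcfc82400f0ae6382204f980bfd6efd5a90530a25b341d2fb6fb65ecfa31a7dcc664bbe1ee90093d5e8f01abc57e312aacd50ee779f02ca476b91d4e8321a9cee512b6dc6c12bb88e0e066311a8a16f375b8cd40b6970386a8b1aca669b459e274eac5965f45b215620373198a526183184c0012f97abc4d939740a5ca448a4a3f2516848362c960af568cd54a953a95465d50279389a47224e4854a8a924102a23d1a36438611488430390883411d8fe7d3d9e4ee753a1cce26f031b4d669339940862300007a5c2d968b21a2c10cac1c29944a04f0a134984b248788c44211007c3c1d0e46e2f1a0c8602e168ac52281309046210f87436190b8542611078341609038140601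
def el10 : Nat := nat_lit 0x144722034c42687f0e122667388822ef101c558ce44c0d823b70c059abe6298ccea91ca59d04735c253a9925158c019840fcba657c2bce8de75b94c8e2731f4da467d15ddab67fa7c04f770220b8286cb60dc1237af0b408693f2041e20b59a22a2741df70615b25b60c613d576843c1f91c8c3d24cbea50d3a94cdd1d029c85e30a619481284013cec17c140842121645af35531d9855450581c835c9b100b36aa85e4a35735c9e7c4d016089b5aafd0e1f7cbc1b8b77eaf548e9683104cdf7b12570974aaad202e1e0cc62f41abc4688b3aaa1dc760ab2cf22707930d42571960e0d44936858c85933c9ab10b8c938c02a01986c6290755a074a2e8027b22ad090b006a9d40094280c208f468d830862da08fe003b9cc3869310f4a6432885096441f0dc60291186c260b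
def el11 : Nat := nat_lit 0x1ca53668cc548820a49e2b876af91a801b865e6b70f958a44c3f84d066e7627cae0a15c2004067d1b20c0e2fb90ec296baf0185b670d154981337de89a59c145e51582d116126d8f4d26d8231038a97582c44d52e25512a01c179581d3521ddef227051bca8430911e501b209fac10d3296a99391f00ada4e1d11c441d0a2062d4bbecf6cf2e8f876907ba515ed860079f902750d5464b6195118404093da29b5b29442175725a120f74929dce6532fdc65a7095584f804840c8e2331a1b2a25908da0431fb218acb2329c2ca40db5008e756a75c01880989ec0149a79fc476b2f5ba916928440b13cae514ab6609cf0c9188949b004216490653e924647e0899cea6b06b4c00bb7ac1cb0ff22b70c03903a15f208181dcdee81718cf4611e00de070630b0e6715d31c2a42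
def el15 : Nat := nat_lit 0x16bc7e0319cde503c966c27d261dc7f2b838a226779983cb523289f67656c052f0812384030941bf94c4702015d21948b681253090f91aa15baca0a3b350a90e900a275f0f136251601d643051c3f2e364b2e3242051ea919139fad70b8449e183ab4842dd819ad08f706bb0203445929a0d352a2066db0d1f000684a83cf6bb209b480f45f1c88858293ac52af6aaf598b47fa2548221bb455c233f3e5000832c19becf2a24c74281e98814776e1bcaa743cb9426b851ba13f076c2499ac51719cc8690b01d969c25afcc3006229cf42f652b0b40224a5954f0733da083c380d9daa821ba898566300cf0d460180583122b246a2726a3070b616a6cdc7d3887cbe5015aad32ba42c08e6d67986dc8c72d9790c202ea0838157009472c358a2934424f39cc6b9033d5c430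
def el19 : Nat := nat_lit 0x14ede7f24872225934942d3512dca00f1327caea91080818423e9c880e14198202e44c3ac92ef3419946c97011070ac48b9c8211689c0bc936b119d020841d206716806a12bd30b3912ec39b0476be4e334dec318939086362acd048c33a652c4774bc0d69d243e0946e1e15936195b0a1c45f1f974caed072bc3cb13201dca7e731b5f445533edfef6123dd84095fa20b8f16c90db0120daf0b4081d2a1f81481278d4cb3620454270fc1e0c2b6d951eabb3c238f4b852ba9ba0a828b40acc652ea00697a0bc083255218b2f3638f4aa8a0b35d72806abc95c4f3e26a08b51ba1df2dc7ea9052c46f82c58974aaad20361738c668f1a8d11675003b8ec153c80c98252c351b4c8679342e52600198c1d56a50027b5a2c01aa0428411a182d9fcee1c3114ca24b1f0c04613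

/-- Representatives of the orbits of the point stabilizer. -/
def reps : List Nat := [nat_lit 0, nat_lit 1, nat_lit 2, nat_lit 33, nat_lit 42]

/-- A search tree for these orbits. -/
def coverTree : List (Nat × Nat × Nat) := [(nat_lit 8, nat_lit 1, nat_lit 1), (nat_lit 73, nat_lit 0, nat_lit 8), (nat_lit 234, nat_lit 1, nat_lit 8), (nat_lit 202, nat_lit 0, nat_lit 234), (nat_lit 94, nat_lit 1, nat_lit 234), (nat_lit 25, nat_lit 0, nat_lit 94), (nat_lit 17, nat_lit 1, nat_lit 94), (nat_lit 233, nat_lit 0, nat_lit 17), (nat_lit 109, nat_lit 1, nat_lit 17), (nat_lit 224, nat_lit 0, nat_lit 109), (nat_lit 216, nat_lit 1, nat_lit 109), (nat_lit 48, nat_lit 1, nat_lit 216), (nat_lit 58, nat_lit 0, nat_lit 48), (nat_lit 226, nat_lit 1, nat_lit 48), (nat_lit 128, nat_lit 0, nat_lit 226), (nat_lit 31, nat_lit 1, nat_lit 226), (nat_lit 91, nat_lit 0, nat_lit 31), (nat_lit 184, nat_lit 1, nat_lit 31), (nat_lit 170, nat_lit 0, nat_lit 184), (nat_lit 44, nat_lit 0, nat_lit 170), (nat_lit 186, nat_lit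 1, nat_lit 170), (nat_lit 63, nat_lit 0, nat_lit 186), (nat_lit 93, nat_lit 1, nat_lit 186), (nat_lit 215, nat_lit 0, nat_lit 93), (nat_lit 3, nat_lit 1, nat_lit 93), (nat_lit 182, nat_lit 0, nat_lit 3), (nat_lit 113, nat_lit 0, nat_lit 182), (nat_lit 213, nat_lit 1, nat_lit 182), (nat_lit 144, nat_lit 0, nat_lit 213), (nat_lit 165, nat_lit 1, nat_lit 213), (nat_lit 193, nat_lit 0, nat_lit 165), (nat_lit 188, nat_lit 1, nat_lit 165), (nat_lit 35, nat_lit 0, nat_lit 188), (nat_lit 157, nat_lit 0, nat_lit 35), (nat_lit 12, nat_lit 1, nat_lit 35), (nat_lit 76, nat_lit 0, nat_lit 12), (nat_lit 247, nat_lit 1, nat_lit 12), (nat_lit 162, nat_lit 0, nat_lit 247), (nat_lit 228, nat_lit 1, nat_lit 247), (nat_lit 240, nat_lit 0, nat_lit 162), (nat_lit 239, nat_lit 0, nat_lit 240), (nat_lit 235, nat_lit 1, nat_lit 240), (nat_lit 151, nat_lit 0, nat_lit 235), (nat_lit 154, nat_lit 1, nat_lit 235), (nat_lit 24, nat_lit 0, nat_lit 154), (nat_lit 229, nat_lit 1, nat_lit 154), (nat_lit 221, nat_lit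 0, nat_lit 229), (nat_lit 177, nat_lit 0, nat_lit 221), (nat_lit 36, nat_lit 0, nat_lit 177), (nat_lit 160, nat_lit 1, nat_lit 177), (nat_lit 61, nat_lit 0, nat_lit 160), (nat_lit 121, nat_lit 1, nat_lit 160), (nat_lit 136, nat_lit 0, nat_lit 121), (nat_lit 137, nat_lit 1, nat_lit 121), (nat_lit 143, nat_lit 0, nat_lit 137), (nat_lit 201, nat_lit 1, nat_lit 137), (nat_lit 82, nat_lit 0, nat_lit 201), (nat_lit 11, nat_lit 1, nat_lit 201), (nat_lit 83, nat_lit 0, nat_lit 11), (nat_lit 135, nat_lit 1, nat_lit 11), (nat_lit 68, nat_lit 0, nat_lit 135), (nat_lit 107, nat_lit 1, nat_lit 135), (nat_lit 171, nat_lit 0, nat_lit 107), (nat_lit 256, nat_lit 1, nat_lit 107), (nat_lit 70, nat_lit 0, nat_lit 256), (nat_lit 258, nat_lit 1, nat_lit 256), (nat_lit 67, nat_lit 0, nat_lit 258), (nat_lit 111, nat_lit 1, nat_lit 258), (nat_lit 23, nat_lit 1, nat_lit 67), (nat_lit 179, nat_lit 0, nat_lit 23), (nat_lit 205, nat_lit 1, nat_lit 23), (nat_lit 20, nat_lit 0, nat_lit 205), (nat_lit 79, nat_lit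 0, nat_lit 20), (nat_lit 19, nat_lit 1, nat_lit 179), (nat_lit 89, nat_lit 0, nat_lit 19), (nat_lit 120, nat_lit 1, nat_lit 19), (nat_lit 200, nat_lit 1, nat_lit 120), (nat_lit 161, nat_lit 0, nat_lit 200), (nat_lit 190, nat_lit 0, nat_lit 161), (nat_lit 39, nat_lit 1, nat_lit 161), (nat_lit 210, nat_lit 0, nat_lit 39), (nat_lit 175, nat_lit 0, nat_lit 210), (nat_lit 86, nat_lit 1, nat_lit 210), (nat_lit 100, nat_lit 0, nat_lit 86), (nat_lit 87, nat_lit 0, nat_lit 100), (nat_lit 209, nat_lit 1, nat_lit 100), (nat_lit 10, nat_lit 1, nat_lit 175), (nat_lit 22, nat_lit 0, nat_lit 10), (nat_lit 206, nat_lit 1, nat_lit 22), (nat_lit 232, nat_lit 0, nat_lit 70), (nat_lit 49, nat_lit 1, nat_lit 70), (nat_lit 106, nat_lit 0, nat_lit 49), (nat_lit 81, nat_lit 0, nat_lit 106), (nat_lit 13, nat_lit 0, nat_lit 81), (nat_lit 196, nat_lit 0, nat_lit 13), (nat_lit 43, nat_lit 1, nat_lit 13), (nat_lit 257, nat_lit 1, nat_lit 196), (nat_lit 60, nat_lit 0, nat_lit 257), (nat_lit 194, nat_lit 1, nat_lit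 257), (nat_lit 147, nat_lit 0, nat_lit 194), (nat_lit 59, nat_lit 1, nat_lit 194), (nat_lit 69, nat_lit 1, nat_lit 59), (nat_lit 64, nat_lit 0, nat_lit 147), (nat_lit 51, nat_lit 1, nat_lit 147), (nat_lit 18, nat_lit 0, nat_lit 51), (nat_lit 231, nat_lit 1, nat_lit 51), (nat_lit 155, nat_lit 0, nat_lit 64), (nat_lit 189, nat_lit 1, nat_lit 155), (nat_lit 99, nat_lit 0, nat_lit 189), (nat_lit 140, nat_lit 0, nat_lit 99), (nat_lit 251, nat_lit 0, nat_lit 140), (nat_lit 52, nat_lit 0, nat_lit 251), (nat_lit 146, nat_lit 1, nat_lit 60), (nat_lit 246, nat_lit 1, nat_lit 146), (nat_lit 167, nat_lit 1, nat_lit 246), (nat_lit 197, nat_lit 1, nat_lit 167), (nat_lit 174, nat_lit 0, nat_lit 197), (nat_lit 172, nat_lit 1, nat_lit 174), (nat_lit 217, nat_lit 1, nat_lit 232), (nat_lit 131, nat_lit 1, nat_lit 217), (nat_lit 92, nat_lit 0, nat_lit 171), (nat_lit 203, nat_lit 1, nat_lit 171), (nat_lit 72, nat_lit 1, nat_lit 203), (nat_lit 263, nat_lit 0, nat_lit 92), (nat_lit 176, nat_lit 1, nat_lit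 263), (nat_lit 183, nat_lit 0, nat_lit 68), (nat_lit 116, nat_lit 1, nat_lit 68), (nat_lit 104, nat_lit 0, nat_lit 143), (nat_lit 187, nat_lit 1, nat_lit 136), (nat_lit 149, nat_lit 0, nat_lit 61), (nat_lit 261, nat_lit 0, nat_lit 157), (nat_lit 142, nat_lit 0, nat_lit 2), (nat_lit 158, nat_lit 1, nat_lit 2), (nat_lit 265, nat_lit 0, nat_lit 158), (nat_lit 152, nat_lit 1, nat_lit 158), (nat_lit 195, nat_lit 0, nat_lit 152), (nat_lit 180, nat_lit 1, nat_lit 152), (nat_lit 148, nat_lit 0, nat_lit 180), (nat_lit 27, nat_lit 1, nat_lit 180), (nat_lit 122, nat_lit 0, nat_lit 27), (nat_lit 227, nat_lit 1, nat_lit 27), (nat_lit 255, nat_lit 0, nat_lit 227), (nat_lit 57, nat_lit 1, nat_lit 227), (nat_lit 9, nat_lit 0, nat_lit 57), (nat_lit 173, nat_lit 1, nat_lit 57), (nat_lit 130, nat_lit 0, nat_lit 173), (nat_lit 254, nat_lit 1, nat_lit 173), (nat_lit 114, nat_lit 0, nat_lit 254), (nat_lit 225, nat_lit 1, nat_lit 254), (nat_lit 178, nat_lit 0, nat_lit 225), (nat_lit 241, nat_lit 1, nat_lit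 225), (nat_lit 7, nat_lit 0, nat_lit 241), (nat_lit 117, nat_lit 0, nat_lit 7), (nat_lit 250, nat_lit 1, nat_lit 7), (nat_lit 105, nat_lit 1, nat_lit 250), (nat_lit 164, nat_lit 0, nat_lit 105), (nat_lit 236, nat_lit 1, nat_lit 105), (nat_lit 90, nat_lit 0, nat_lit 236), (nat_lit 15, nat_lit 1, nat_lit 236), (nat_lit 166, nat_lit 1, nat_lit 15), (nat_lit 55, nat_lit 0, nat_lit 166), (nat_lit 41, nat_lit 0, nat_lit 55), (nat_lit 102, nat_lit 1, nat_lit 55), (nat_lit 145, nat_lit 0, nat_lit 102), (nat_lit 5, nat_lit 1, nat_lit 102), (nat_lit 129, nat_lit 0, nat_lit 5), (nat_lit 181, nat_lit 1, nat_lit 5), (nat_lit 156, nat_lit 0, nat_lit 181), (nat_lit 138, nat_lit 0, nat_lit 156), (nat_lit 242, nat_lit 1, nat_lit 156), (nat_lit 53, nat_lit 0, nat_lit 242), (nat_lit 207, nat_lit 1, nat_lit 242), (nat_lit 37, nat_lit 0, nat_lit 207), (nat_lit 211, nat_lit 1, nat_lit 207), (nat_lit 28, nat_lit 0, nat_lit 211), (nat_lit 150, nat_lit 0, nat_lit 28), (nat_lit 134, nat_lit 1, nat_lit 28), (nat_lit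 40, nat_lit 0, nat_lit 150), (nat_lit 98, nat_lit 1, nat_lit 150), (nat_lit 115, nat_lit 1, nat_lit 98), (nat_lit 204, nat_lit 0, nat_lit 115), (nat_lit 6, nat_lit 0, nat_lit 204), (nat_lit 50, nat_lit 1, nat_lit 204), (nat_lit 110, nat_lit 0, nat_lit 50), (nat_lit 199, nat_lit 1, nat_lit 50), (nat_lit 222, nat_lit 0, nat_lit 110), (nat_lit 212, nat_lit 1, nat_lit 110), (nat_lit 112, nat_lit 1, nat_lit 212), (nat_lit 192, nat_lit 0, nat_lit 112), (nat_lit 214, nat_lit 1, nat_lit 112), (nat_lit 75, nat_lit 0, nat_lit 214), (nat_lit 29, nat_lit 1, nat_lit 214), (nat_lit 34, nat_lit 0, nat_lit 29), (nat_lit 163, nat_lit 0, nat_lit 34), (nat_lit 74, nat_lit 1, nat_lit 163), (nat_lit 223, nat_lit 1, nat_lit 74), (nat_lit 56, nat_lit 0, nat_lit 223), (nat_lit 46, nat_lit 1, nat_lit 223), (nat_lit 132, nat_lit 0, nat_lit 46), (nat_lit 14, nat_lit 0, nat_lit 132), (nat_lit 30, nat_lit 1, nat_lit 132), (nat_lit 198, nat_lit 0, nat_lit 30), (nat_lit 191, nat_lit 1, nat_lit 198), (nat_lit 243,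 nat_lit 1, nat_lit 191), (nat_lit 220, nat_lit 0, nat_lit 243), (nat_lit 253, nat_lit 1, nat_lit 243), (nat_lit 123, nat_lit 0, nat_lit 253), (nat_lit 249, nat_lit 1, nat_lit 253), (nat_lit 16, nat_lit 1, nat_lit 249), (nat_lit 237, nat_lit 0, nat_lit 16), (nat_lit 153, nat_lit 1, nat_lit 16), (nat_lit 126, nat_lit 1, nat_lit 153), (nat_lit 118, nat_lit 0, nat_lit 126), (nat_lit 127, nat_lit 0, nat_lit 118), (nat_lit 26, nat_lit 0, nat_lit 237), (nat_lit 230, nat_lit 1, nat_lit 237), (nat_lit 21, nat_lit 0, nat_lit 26), (nat_lit 4, nat_lit 1, nat_lit 26), (nat_lit 260, nat_lit 0, nat_lit 4), (nat_lit 97, nat_lit 1, nat_lit 4), (nat_lit 45, nat_lit 0, nat_lit 97), (nat_lit 141, nat_lit 1, nat_lit 45), (nat_lit 103, nat_lit 0, nat_lit 141), (nat_lit 84, nat_lit 1, nat_lit 260), (nat_lit 88, nat_lit 0, nat_lit 84), (nat_lit 159, nat_lit 1, nat_lit 84), (nat_lit 252, nat_lit 0, nat_lit 159), (nat_lit 38, nat_lit 0, nat_lit 21), (nat_lit 108, nat_lit 0, nat_lit 123), (nat_lit 95, nat_lit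 1, nat_lit 108), (nat_lit 238, nat_lit 0, nat_lit 95), (nat_lit 139, nat_lit 0, nat_lit 238), (nat_lit 32, nat_lit 0, nat_lit 139), (nat_lit 259, nat_lit 0, nat_lit 32), (nat_lit 244, nat_lit 0, nat_lit 220), (nat_lit 47, nat_lit 1, nat_lit 244), (nat_lit 65, nat_lit 1, nat_lit 75), (nat_lit 208, nat_lit 0, nat_lit 192), (nat_lit 169, nat_lit 1, nat_lit 208), (nat_lit 133, nat_lit 0, nat_lit 138), (nat_lit 264, nat_lit 0, nat_lit 33), (nat_lit 185, nat_lit 1, nat_lit 33), (nat_lit 54, nat_lit 0, nat_lit 185), (nat_lit 77, nat_lit 1, nat_lit 185), (nat_lit 168, nat_lit 1, nat_lit 77), (nat_lit 66, nat_lit 0, nat_lit 168), (nat_lit 248, nat_lit 1, nat_lit 168), (nat_lit 124, nat_lit 0, nat_lit 66), (nat_lit 119, nat_lit 0, nat_lit 124), (nat_lit 62, nat_lit 1, nat_lit 124), (nat_lit 78, nat_lit 1, nat_lit 62), (nat_lit 262, nat_lit 0, nat_lit 42), (nat_lit 80, nat_lit 1, nat_lit 42), (nat_lit 71, nat_lit 0, nat_lit 80), (nat_lit 245, nat_lit 0, nat_lit 71), (nat_lit 218, nat_lit 0, nat_lit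 245), (nat_lit 219, nat_lit 1, nat_lit 245), (nat_lit 125, nat_lit 0, nat_lit 219), (nat_lit 96, nat_lit 0, nat_lit 125), (nat_lit 85, nat_lit 1, nat_lit 96), (nat_lit 101, nat_lit 1, nat_lit 218)]

/-- The initial mask of the orbit search. -/
noncomputable def mem0 : Nat :=
  setBit (setBit (setBit (setBit (setBit 0 0) 1) 2) 33) 42

theorem hm0 : j1_mask = 2 ^ j1_w - 1 := by decide +kernel

theorem hid0 : ∀ i < j1_n, app j1_w j1_mask j1_idc i = i := fun i hi =>
  Nat.eq_of_beq_eq_true ((allL_eq_true _ _).1 j1_idok i (List.mem_range.2 hi))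

theorem sem0 : Sem j1_w j1_mask e266 j1_L j1_maskL j1_G_levels ∧
    H266 = H j1_w j1_mask e266 (topGens j1_G_levels) := by
  obtain ⟨-, -, -, h1, h2, -⟩ := Core.main_of_checkAll j1_hT j1_G_ok
  exact ⟨h1, h2⟩

/-- The stabilizer of the first base point. -/
noncomputable abbrev LS : Subgroup (Equiv.Perm (Fin 266)) := H j1_w j1_mask e266 j1_G_lev1.gens

set_option maxRecDepth 1000000 in
theorem lev1_valid : allL (Simple.validB j1_n j1_w j1_mask j1_idc) j1_G_lev1.gens = true := by
  decide +kernel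

set_option maxRecDepth 1000000 in
theorem cover_ok : coverOK j1_n j1_w j1_mask j1_G_lev1.gens coverTree mem0 = true := by
  decide +kernel

set_option maxRecDepth 1000000 in
set_option maxHeartbeats 0 in
theorem big_ok : allL (fun r => force (app j1_L j1_maskL j1_G_lev0.U r)
    (enumAll j1_n j1_w j1_mask j1_L j1_maskL (powCheck j1_n j1_w j1_mask j1_idc)
      [j1_G_lev1, j1_G_lev2])) reps = true := by
  decide +kernel

/-- Powers of codes. -/
noncomputable def powC (c : Nat) : Nat → Nat
  | 0 => j1_idc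
  | k + 1 => Core.comp j1_n j1_w j1_mask (powC c k) c



set_option maxRecDepth 1000000 in
set_option maxHeartbeats 0 in
theorem el6_valid : Simple.validB j1_n j1_w j1_mask j1_idc el6 = true := by decide +kernel

set_option maxRecDepth 1000000 in
set_option maxHeartbeats 0 in
theorem el6_sift : sift j1_n j1_w j1_mask j1_L j1_maskL j1_idc j1_G_levels el6 = true := by decide +kernel

set_option maxRecDepth 1000000 in
set_option maxHeartbeats 0 in
theorem el6_pow : powC el6 6 = j1_idc := by decide +kernel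

set_option maxRecDepth 1000000 in
set_option maxHeartbeats 0 in
theorem el6_moved2 : app j1_w j1_mask (powC el6 (6 / 2)) 0 ≠ 0 := by decide +kernel

set_option maxRecDepth 1000000 in
set_option maxHeartbeats 0 in
theorem el6_moved3 : app j1_w j1_mask (powC el6 (6 / 3)) 0 ≠ 0 := by decide +kernel

set_option maxRecDepth 1000000 in
set_option maxHeartbeats 0 in
theorem el7_valid : Simple.validB j1_n j1_w j1_mask j1_idc el7 = true := by decide +kernel

set_option maxRecDepth 1000000 in
set_option maxHeartbeats 0 in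
theorem el7_sift : sift j1_n j1_w j1_mask j1_L j1_maskL j1_idc j1_G_levels el7 = true := by decide +kernel

set_option maxRecDepth 1000000 in
set_option maxHeartbeats 0 in
theorem el7_pow : powC el7 7 = j1_idc := by decide +kernel

set_option maxRecDepth 1000000 in
set_option maxHeartbeats 0 in
theorem el7_moved7 : app j1_w j1_mask (powC el7 (7 / 7)) 0 ≠ 0 := by decide +kernel

set_option maxRecDepth 1000000 in
set_option maxHeartbeats 0 in
theorem el10_valid : Simple.validB j1_n j1_w j1_mask j1_idc el10 = true := by decide +kernel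

set_option maxRecDepth 1000000 in
set_option maxHeartbeats 0 in
theorem el10_sift : sift j1_n j1_w j1_mask j1_L j1_maskL j1_idc j1_G_levels el10 = true := by decide +kernel

set_option maxRecDepth 1000000 in
set_option maxHeartbeats 0 in
theorem el10_pow : powC el10 10 = j1_idc := by decide +kernel

set_option maxRecDepth 1000000 in
set_option maxHeartbeats 0 in
theorem el10_moved2 : app j1_w j1_mask (powC el10 (10 / 2)) 0 ≠ 0 := by decide +kernel

set_option maxRecDepth 1000000 in
set_option maxHeartbeats 0 in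
theorem el10_moved5 : app j1_w j1_mask (powC el10 (10 / 5)) 0 ≠ 0 := by decide +kernel

set_option maxRecDepth 1000000 in
set_option maxHeartbeats 0 in
theorem el11_valid : Simple.validB j1_n j1_w j1_mask j1_idc el11 = true := by decide +kernel

set_option maxRecDepth 1000000 in
set_option maxHeartbeats 0 in
theorem el11_sift : sift j1_n j1_w j1_mask j1_L j1_maskL j1_idc j1_G_levels el11 = true := by decide +kernel

set_option maxRecDepth 1000000 in
set_option maxHeartbeats 0 in
theorem el11_pow : powC el11 11 = j1_idc := by decide +kernel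

set_option maxRecDepth 1000000 in
set_option maxHeartbeats 0 in
theorem el11_moved11 : app j1_w j1_mask (powC el11 (11 / 11)) 0 ≠ 0 := by decide +kernel

set_option maxRecDepth 1000000 in
set_option maxHeartbeats 0 in
theorem el15_valid : Simple.validB j1_n j1_w j1_mask j1_idc el15 = true := by decide +kernel

set_option maxRecDepth 1000000 in
set_option maxHeartbeats 0 in
theorem el15_sift : sift j1_n j1_w j1_mask j1_L j1_maskL j1_idc j1_G_levels el15 = true := by decide +kernel

set_option maxRecDepth 1000000 in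
set_option maxHeartbeats 0 in
theorem el15_pow : powC el15 15 = j1_idc := by decide +kernel

set_option maxRecDepth 1000000 in
set_option maxHeartbeats 0 in
theorem el15_moved3 : app j1_w j1_mask (powC el15 (15 / 3)) 0 ≠ 0 := by decide +kernel

set_option maxRecDepth 1000000 in
set_option maxHeartbeats 0 in
theorem el15_moved5 : app j1_w j1_mask (powC el15 (15 / 5)) 0 ≠ 0 := by decide +kernel

set_option maxRecDepth 1000000 in
set_option maxHeartbeats 0 in
theorem el19_valid : Simple.validB j1_n j1_w j1_mask j1_idc el19 = true := by decide +kernel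

set_option maxRecDepth 1000000 in
set_option maxHeartbeats 0 in
theorem el19_sift : sift j1_n j1_w j1_mask j1_L j1_maskL j1_idc j1_G_levels el19 = true := by decide +kernel

set_option maxRecDepth 1000000 in
set_option maxHeartbeats 0 in
theorem el19_pow : powC el19 19 = j1_idc := by decide +kernel

set_option maxRecDepth 1000000 in
set_option maxHeartbeats 0 in
theorem el19_moved19 : app j1_w j1_mask (powC el19 (19 / 19)) 0 ≠ 0 := by decide +kernel


end Concrete

end Cfsg.Agent.Lib.PermComp.Spor.J1SpecA
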